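import Groth.Agent.VarDim.Basic
import Groth.Agent.EGA41Lib.IntDim
import Mathlib

/-! Generators of differentials at a point of embedding dimension at most the dimension plus one. -/

universe u

open TensorProduct IsLocalRing

set_option linter.style.haveILetI false

namespace Groth.Agent.H9KaehlerGen

/-- The differentials of a finitely generated extension of a perfect field are spanned by those of a
separating transcendence basis. -/
theorem finrank_kaehler_le_trdeg (k L : Type u) [Field k] [PerfectField k] [Field L] [Algebra k L]
    [Algebra.EssFiniteType k L] (n : ℕ) (hn : Algebra.trdeg k L = n) :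
    Module.finrank L Ω[L⁄k] ≤ n := by
  classical
  obtain ⟨s, hs, hsep⟩ := exists_isTranscendenceBasis_and_isSeparable_of_perfectField (k := k) (K := L)
  have hcard : s.card = n := by
    have := hs.cardinalMk_eq_trdeg
    rw [hn, Cardinal.mk_coe_finset] at this
    exact_mod_cast this
  let N : Submodule L Ω[L⁄k] := Submodule.span L ((KaehlerDifferential.D k L) '' (s : Set L))
  let F := IntermediateField.adjoin k (s : Set L)
  have hF : ∀ y ∈ F, KaehlerDifferential.D k L y ∈ N := by
    intro y hy
    induction hy using IntermediateField.adjoin_induction with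
    | mem x hx => exact Submodule.subset_span ⟨x, hx, rfl⟩
    | algebraMap c => rw [Derivation.map_algebraMap]; exact N.zero_mem
    | add x y _ _ hx hy => rw [map_add]; exact add_mem hx hy
    | inv x _ hx => rw [Derivation.leibniz_inv]; exact N.smul_mem _ hx
    | mul x y _ _ hx hy => rw [Derivation.leibniz]; exact add_mem (N.smul_mem _ hy) (N.smul_mem _ hx)
  haveI : Algebra.FormallyUnramified F L := Algebra.FormallyUnramified.of_isSeparable F L
  let d : Derivation k L (Ω[L⁄k] ⧸ N) := N.mkQ.compDer (KaehlerDifferential.D k L)
  have hd : ∀ y ∈ F, d y = 0 := fun y hy => (Submodule.Quotient.mk_eq_zero N).2 (hF y hy)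
  let d' : Derivation F L (Ω[L⁄k] ⧸ N) :=
    { toFun := d
      map_add' := map_add d
      map_smul' := fun c x => by
        rw [RingHom.id_apply, Algebra.smul_def, d.leibniz, hd (algebraMap F L c) c.2, smul_zero, add_zero]
        exact IsScalarTower.algebraMap_smul L c (d x)
      map_one_eq_zero' := d.map_one_eq_zero
      leibniz' := d.leibniz }
  have htop : N = ⊤ := by
    rw [eq_top_iff, ← KaehlerDifferential.span_range_derivation k L, Submodule.span_le]
    rintro _ ⟨x, rfl⟩
    have : d' x = 0 := by
      rw [← d'.liftKaehlerDifferential_comp_D, Subsingleton.elim (KaehlerDifferential.D F L x) 0, map_zero]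
    exact (Submodule.Quotient.mk_eq_zero N).1 this
  rw [← finrank_top L Ω[L⁄k], ← htop]
  calc Module.finrank L N ≤ (s.image (KaehlerDifferential.D k L)).card := by
        refine le_trans (le_of_eq ?_) (finrank_span_finset_le_card (R := L) (s.image (KaehlerDifferential.D k L)))
        show Module.finrank L N = Module.finrank L (Submodule.span L ((s.image (KaehlerDifferential.D k L) : Finset _) : Set Ω[L⁄k]))
        rw [Finset.coe_image]
    _ ≤ s.card := Finset.card_image_le
    _ = n := hcard

/-- The cotangent space and the differentials of the residue field bound the differentials at a point. -/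
theorem finrank_baseChange_kaehler_le (k P : Type u) [Field k] [CommRing P] [Algebra k P] [IsLocalRing P]
    [IsNoetherianRing P] [Algebra.EssFiniteType k P] :
    Module.finrank (ResidueField P) (ResidueField P ⊗[P] Ω[P⁄k]) ≤
      Module.finrank (ResidueField P) (CotangentSpace P) + Module.finrank (ResidueField P) Ω[ResidueField P⁄k] := by
  let L := ResidueField P
  have hsurj : Function.Surjective (algebraMap P L) := residue_surjective
  haveI : Module.Finite P Ω[P⁄k] := inferInstance
  let g : (L ⊗[P] Ω[P⁄k]) →ₗ[L] Ω[L⁄k] := KaehlerDifferential.mapBaseChange k P L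
  have hg : Function.Surjective g := KaehlerDifferential.mapBaseChange_surjective k P L hsurj
  have key : Module.finrank L (LinearMap.ker g) ≤ Module.finrank L (CotangentSpace P) := by
    have : ∀ I : Ideal P, I = maximalIdeal P → RingHom.ker (algebraMap P L) = I →
        Module.finrank L (LinearMap.ker g) ≤ Module.finrank L (CotangentSpace P) := by
      rintro _ rfl hker
      let c : (RingHom.ker (algebraMap P L)).Cotangent ≃ₗ[P] CotangentSpace P :=
        Ideal.Cotangent.equivOfEq _ _ hker
      let φ : CotangentSpace P →ₗ[P] L ⊗[P] Ω[P⁄k] :=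
        (KaehlerDifferential.kerCotangentToTensor k P L).comp c.symm.toLinearMap
      let φ' : CotangentSpace P →ₗ[L] L ⊗[P] Ω[P⁄k] := LinearMap.extendScalarsOfSurjective hsurj φ
      have hle : LinearMap.ker g ≤ LinearMap.range φ' := by
        intro z hz
        obtain ⟨w, rfl⟩ := (KaehlerDifferential.exact_kerCotangentToTensor_mapBaseChange k P L hsurj z).1 hz
        exact ⟨c w, congrArg (KaehlerDifferential.kerCotangentToTensor k P L) (c.symm_apply_apply w)⟩
      exact (Submodule.finrank_mono hle).trans (LinearMap.finrank_range_le φ')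
    exact this _ rfl IsLocalRing.ker_residue
  have h := LinearMap.finrank_range_add_finrank_ker g
  rw [LinearMap.range_eq_top.2 hg, finrank_top] at h
  show Module.finrank L (L ⊗[P] Ω[P⁄k]) ≤ Module.finrank L (CotangentSpace P) + Module.finrank L Ω[L⁄k]
  omega

theorem height_add_trdeg (k B : Type u) [Field k] [CommRing B] [IsDomain B] [Algebra k B]
    [Algebra.FiniteType k B] (d : ℕ) (hd : ringKrullDim B = d) (q : Ideal B) [q.IsPrime] :
    ∃ a b : ℕ, q.height = a ∧ Algebra.trdeg k q.ResidueField = b ∧ a + b = d := by
  let pq : PrimeSpectrum B := ⟨q, ‹q.IsPrime›⟩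
  have hsum := VarDim.height_add_coheight_eq k d B hd pq
  obtain ⟨n, hn, ht⟩ := VarDim.exists_dim_eq_trdeg k (B ⧸ q)
  have hco : (Order.coheight pq : WithBot ℕ∞) = n := by
    rw [← hn, ringKrullDim_quotient, Order.coheight_eq_krullDim_Ici]
    refine Order.krullDim_eq_of_orderIso (OrderIso.setCongr _ _ ?_)
    ext x
    exact Iff.rfl
  have hco' : Order.coheight pq = n := by exact_mod_cast hco
  rw [hco', ← PrimeSpectrum.height_eq_orderHeight pq] at hsum
  change q.height + (n : ℕ∞) = d at hsum
  obtain ⟨a, ha⟩ := ENat.ne_top_iff_exists.1 (show q.height ≠ ⊤ from fun h => by simp [h] at hsum)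
  refine ⟨a, n, ha.symm, ?_, ?_⟩
  · haveI : Algebra.IsAlgebraic (B ⧸ q) q.ResidueField :=
      IsLocalization.isAlgebraic (R := B ⧸ q) (S := q.ResidueField) (nonZeroDivisors (B ⧸ q))
    haveI : FaithfulSMul (B ⧸ q) q.ResidueField :=
      (faithfulSMul_iff_algebraMap_injective _ _).2 (IsFractionRing.injective _ _)
    have h := lift_trdeg_add_eq k (B ⧸ q) q.ResidueField
    rw [trdeg_eq_zero (R := B ⧸ q), Cardinal.lift_zero, add_zero, ht] at h
    simpa using h.symm
  · rw [← ha] at hsum
    exact_mod_cast hsum

end Groth.Agent.H9KaehlerGen
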