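import Groth.Agent.H9KaehlerGen.Basic
import Mathlib

/-! Descending the bound from the algebraic closure. -/

universe u

open TensorProduct IsLocalRing

set_option linter.style.haveILetI false

namespace Groth.Agent.H9KaehlerGen

theorem finrank_residue_baseChange_le {k B : Type u} [Field k] [PerfectField k] [CommRing B] [IsDomain B] [Algebra k B]
    [Algebra.FiniteType k B] (d : ℕ) (hd : ringKrullDim B = d) (q : Ideal B) [q.IsPrime]
    (h : (Module.finrank (ResidueField (Localization.AtPrime q)) (CotangentSpace (Localization.AtPrime q)) : ℕ∞)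
      ≤ q.height + 1) :
    Module.finrank q.ResidueField (q.ResidueField ⊗[B] Ω[B⁄k]) ≤ d + 1 := by
  haveI : IsNoetherianRing B := Algebra.FiniteType.isNoetherianRing k B
  let P := Localization.AtPrime q
  haveI : IsNoetherianRing P := IsLocalization.isNoetherianRing q.primeCompl P ‹_›
  haveI : Algebra.EssFiniteType B P := Algebra.EssFiniteType.of_isLocalization P q.primeCompl
  haveI : Algebra.EssFiniteType k P := Algebra.EssFiniteType.comp k B P
  haveI : Algebra.EssFiniteType k q.ResidueField := Algebra.EssFiniteType.comp k B q.ResidueField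
  obtain ⟨a, b, ha, hb, hab⟩ := height_add_trdeg k B d hd q
  have h1 := finrank_baseChange_kaehler_le k P
  have h2 : Module.finrank q.ResidueField Ω[q.ResidueField⁄k] ≤ b := finrank_kaehler_le_trdeg k _ b hb
  have h3 : Module.finrank (ResidueField P) (CotangentSpace P) ≤ a + 1 := by
    rw [ha] at h
    exact_mod_cast h
  haveI : IsLocalizedModule q.primeCompl (KaehlerDifferential.map k k B P) := inferInstance
  have hb1 : IsBaseChange P (KaehlerDifferential.map k k B P) := IsLocalizedModule.isBaseChange q.primeCompl P _
  have hb2 := hb1.comp (TensorProduct.isBaseChange P Ω[P⁄k] (ResidueField P))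
  have e : (q.ResidueField ⊗[B] Ω[B⁄k]) ≃ₗ[q.ResidueField] (ResidueField P ⊗[P] Ω[P⁄k]) := hb2.equiv
  have e' : Module.finrank q.ResidueField (q.ResidueField ⊗[B] Ω[B⁄k]) =
      Module.finrank (ResidueField P) (ResidueField P ⊗[P] Ω[P⁄k]) := e.finrank_eq
  change _ ≤ _ + Module.finrank q.ResidueField Ω[q.ResidueField⁄k] at h1
  omega

/-- Nakayama: few generators at a point. -/
theorem exists_generators {A : Type u} [CommRing A] (M : Type u) [AddCommGroup M] [Module A M] [Module.Finite A M]
    (p : Ideal A) [p.IsPrime] (n : ℕ) (h : Module.finrank p.ResidueField (p.ResidueField ⊗[A] M) ≤ n) :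
    ∃ s : Finset (LocalizedModule p.primeCompl M), s.card ≤ n ∧
      Submodule.span (Localization.AtPrime p) (s : Set (LocalizedModule p.primeCompl M)) = ⊤ := by
  classical
  let P := Localization.AtPrime p
  let N := LocalizedModule p.primeCompl M
  haveI : Module.Finite P N := inferInstance
  let e : (p.ResidueField ⊗[A] M) ≃ₗ[p.ResidueField] (ResidueField P ⊗[P] N) :=
    ((IsLocalizedModule.isBaseChange p.primeCompl P (LocalizedModule.mkLinearMap p.primeCompl M)).comp
      (TensorProduct.isBaseChange P N (ResidueField P))).equiv
  have hsurj : Function.Surjective (TensorProduct.mk P (ResidueField P) N 1) :=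
    TensorProduct.mk_surjective P N _ residue_surjective
  have hfr : Module.finrank (ResidueField P) (ResidueField P ⊗[P] N) ≤ n := e.finrank_eq ▸ h
  let bs := Module.finBasis (ResidueField P) (ResidueField P ⊗[P] N)
  choose g hg using fun i => hsurj (bs i)
  refine ⟨Finset.univ.image g, (Finset.card_image_le).trans (by simpa using hfr), ?_⟩
  rw [Finset.coe_image, Finset.coe_univ, Set.image_univ]
  exact IsLocalRing.span_eq_top_of_tmul_eq_basis g bs hg

end Groth.Agent.H9KaehlerGen
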